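import Mathlib

/-!
# Normality of subrings integrally closed in a "normal Rickart" ring (helper8)

Pure algebra for S9673: if `φ : R → B` is injective with integrally closed image, and `B` has
annihilator idempotents (`HasIdem`) and the division property (`HasDiv`) (both hold for rings of
sections of normal schemes with locally finitely many components), then every localization of `R`
at a prime is an integrally closed domain.
-/

set_option autoImplicit false
universe u
open Polynomial

namespace Groth.Agent.H8.NormNormal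

/-- Annihilators are generated by idempotents. -/
def HasIdem (B : Type u) [CommRing B] : Prop :=
  ∀ b : B, ∃ e : B, e * e = e ∧ (1 - e) * b = 0 ∧ ∀ a : B, a * b = 0 → e * a = 0

/-- Division property: a "fraction" `a / c` satisfying a monic equation (up to the torsion
element `t`) is a genuine element on the support of `t * c`. -/
def HasDiv (B : Type u) [CommRing B] : Prop :=
  ∀ (q : B[X]), q.Monic → ∀ a c t : B, t * (q.scaleRoots c).eval a = 0 →
    ∃ e g : B, e * e = e ∧ (1 - e) * (t * c) = 0 ∧ c * g = e * a ∧ g * q.eval g = 0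

section

variable {R B : Type u} [CommRing R] [CommRing B] (φ : R →+* B)

lemma idem_mem_range (hcl : ∀ b : B, φ.IsIntegralElem b → b ∈ Set.range φ) (e : B)
    (he : e * e = e) : e ∈ Set.range φ := by
  apply hcl
  refine ⟨X ^ (1 + 1) - X, monic_X_pow_sub (lt_of_le_of_lt degree_X_le (by exact_mod_cast (show (1:ℕ) < 1 + 1 by norm_num))), ?_⟩
  rw [eval₂_sub, eval₂_pow, eval₂_X, pow_succ, pow_one, he, sub_self]

variable (hinj : Function.Injective φ)
  (hcl : ∀ b : B, φ.IsIntegralElem b → b ∈ Set.range φ)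

include hinj hcl in
theorem isDomain_localization (hI : HasIdem B) (𝔭 : Ideal R) [𝔭.IsPrime]
    (S : Type u) [CommRing S] [Algebra R S] [IsLocalization.AtPrime S 𝔭] : IsDomain S := by
  haveI : Nontrivial S := (IsLocalization.AtPrime.isLocalRing S 𝔭).toNontrivial
  haveI : NoZeroDivisors S := by
    constructor
    intro σ₁ σ₂ h
    obtain ⟨a₁, s₁, rfl⟩ := IsLocalization.exists_mk'_eq 𝔭.primeCompl σ₁
    obtain ⟨a₂, s₂, rfl⟩ := IsLocalization.exists_mk'_eq 𝔭.primeCompl σ₂
    rw [← IsLocalization.mk'_mul, IsLocalization.mk'_eq_zero_iff] at h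
    obtain ⟨t, ht⟩ := h
    obtain ⟨e, hee, he1, he2⟩ := hI (φ a₂)
    obtain ⟨ε, rfl⟩ := idem_mem_range φ hcl e hee
    have h1 : (1 - ε) * a₂ = 0 := by
      apply hinj
      rw [map_mul, map_sub, map_one, map_zero]
      exact he1
    have h2 : ε * ((t : R) * a₁) = 0 := by
      apply hinj
      rw [map_mul, map_zero]
      apply he2
      rw [← map_mul, mul_assoc, ht, map_zero]
    by_cases hε : ε ∈ 𝔭
    · right
      have h3 : (1 - ε) ∈ 𝔭.primeCompl := by
        intro h'
        apply (Ideal.IsPrime.ne_top ‹𝔭.IsPrime›)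
        rw [Ideal.eq_top_iff_one]
        have := 𝔭.add_mem h' hε
        simpa using this
      rw [IsLocalization.mk'_eq_zero_iff]
      exact ⟨⟨1 - ε, h3⟩, h1⟩
    · left
      rw [IsLocalization.mk'_eq_zero_iff]
      exact ⟨⟨ε * t, mul_mem (show ε ∈ 𝔭.primeCompl from hε) t.2⟩, by
        show ε * (t : R) * a₁ = 0
        rw [mul_assoc]; exact h2⟩
  exact NoZeroDivisors.to_isDomain S

include hinj hcl in
theorem isIntegrallyClosed_localization (hI : HasIdem B) (hD : HasDiv B) (𝔭 : Ideal R)
    [𝔭.IsPrime] (S : Type u) [CommRing S] [Algebra R S] [IsLocalization.AtPrime S 𝔭] :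
    IsIntegrallyClosed S := by
  classical
  haveI : IsDomain S := isDomain_localization φ hinj hcl hI 𝔭 S
  haveI : Nontrivial B := by
    refine ⟨⟨1, 0, ?_⟩⟩
    have hR : (1 : R) ≠ 0 := by
      intro h10
      apply (Ideal.IsPrime.ne_top ‹𝔭.IsPrime›)
      rw [Ideal.eq_top_iff_one, h10]
      exact 𝔭.zero_mem
    have := hinj.ne hR
    rwa [map_one, map_zero] at this
  rw [isIntegrallyClosed_iff (FractionRing S)]
  intro x hx
  have hιdef : ∀ r : R, algebraMap R (FractionRing S) r =
      algebraMap S (FractionRing S) (algebraMap R S r) :=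
    fun r => IsScalarTower.algebraMap_apply R S (FractionRing S) r
  have hKinj : Function.Injective (algebraMap S (FractionRing S)) :=
    IsFractionRing.injective S (FractionRing S)
  -- x as a fraction of elements of R
  obtain ⟨A₀, C₀, hC₀, hxC⟩ : ∃ A₀ C₀ : R, algebraMap R S C₀ ≠ 0 ∧
      x * algebraMap R (FractionRing S) C₀ = algebraMap R (FractionRing S) A₀ := by
    obtain ⟨σ₁, σ₂, hσ₂, rfl⟩ := IsFractionRing.div_surjective (A := S) x
    have hσ₂0 : σ₂ ≠ 0 := nonZeroDivisors.ne_zero hσ₂
    obtain ⟨a, s₁, ha⟩ := IsLocalization.exists_mk'_eq 𝔭.primeCompl σ₁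
    obtain ⟨c, s₂, hc⟩ := IsLocalization.exists_mk'_eq 𝔭.primeCompl σ₂
    have ha' : σ₁ * algebraMap R S s₁ = algebraMap R S a := by
      rw [← ha]; exact IsLocalization.mk'_spec S a s₁
    have hc' : σ₂ * algebraMap R S s₂ = algebraMap R S c := by
      rw [← hc]; exact IsLocalization.mk'_spec S c s₂
    have hu1 : IsUnit (algebraMap R S s₁) := IsLocalization.map_units S s₁
    refine ⟨a * s₂, c * s₁, ?_, ?_⟩
    · rw [map_mul, ← hc']
      exact mul_ne_zero (mul_ne_zero hσ₂0 (IsLocalization.map_units S s₂).ne_zero) hu1.ne_zero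
    · have hK : algebraMap S (FractionRing S) σ₂ ≠ 0 := by
        rw [Ne, ← map_zero (algebraMap S (FractionRing S))]
        exact fun h => hσ₂0 (hKinj h)
      have e1 : algebraMap R (FractionRing S) (c * s₁) =
          algebraMap S (FractionRing S) σ₂ * algebraMap S (FractionRing S) (algebraMap R S s₂) *
            algebraMap S (FractionRing S) (algebraMap R S s₁) := by
        rw [hιdef, map_mul (algebraMap R S), ← hc', map_mul, map_mul]
      have e2 : algebraMap R (FractionRing S) (a * s₂) =
          algebraMap S (FractionRing S) σ₁ * algebraMap S (FractionRing S) (algebraMap R S s₁) *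
            algebraMap S (FractionRing S) (algebraMap R S s₂) := by
        rw [hιdef, map_mul (algebraMap R S), ← ha', map_mul, map_mul]
      rw [e1, e2]
      field_simp
  obtain ⟨⟨m, hm⟩, hmx⟩ :=
    IsIntegral.exists_multiple_integral_of_isLocalization 𝔭.primeCompl x hx
  obtain ⟨q, hq, hqx⟩ := hmx
  have hmx' : (⟨m, hm⟩ : 𝔭.primeCompl) • x = algebraMap R (FractionRing S) m * x := by
    rw [Submonoid.smul_def, Algebra.smul_def]
  rw [hmx'] at hqx
  -- the element r₀
  have hr₀ : algebraMap R S ((q.scaleRoots C₀).eval (m * A₀)) = 0 := by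
    apply hKinj
    rw [map_zero, ← hιdef, ← eval₂_at_apply, map_mul, ← hxC]
    have := scaleRoots_eval₂_mul (p := q) (algebraMap R (FractionRing S))
      (algebraMap R (FractionRing S) m * x) C₀
    rw [hqx, mul_zero] at this
    rw [← this]
    congr 1
    ring
  obtain ⟨t, ht⟩ := (IsLocalization.map_eq_zero_iff 𝔭.primeCompl S _).mp hr₀
  obtain ⟨e, g, hee, he1, hcg, hgq⟩ := hD (q.map φ) (hq.map φ) (φ (m * A₀)) (φ C₀) (φ t) (by
    have h1 : φ q.leadingCoeff ≠ 0 := by rw [hq.leadingCoeff, map_one]; exact one_ne_zero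
    rw [← map_scaleRoots q C₀ φ h1, eval_map_apply, ← map_mul, ht, map_zero])
  obtain ⟨ε, rfl⟩ := idem_mem_range φ hcl e hee
  obtain ⟨ρ, rfl⟩ : g ∈ Set.range φ := by
    apply hcl
    refine ⟨X * q, monic_X.mul hq, ?_⟩
    rw [eval₂_mul, eval₂_X, ← eval_map]
    exact hgq
  have h1 : (1 - ε) * ((t : R) * C₀) = 0 := by
    apply hinj
    rw [map_mul, map_sub, map_one, map_mul, map_zero]
    exact he1
  have h2 : C₀ * ρ = ε * (m * A₀) := by
    apply hinj
    rw [map_mul, map_mul]
    exact hcg
  have hεε : ε * ε = ε := by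
    apply hinj
    rw [map_mul]; exact hee
  have hε : ε ∈ 𝔭.primeCompl := by
    intro hε
    have h3 : (1 - ε) ∈ 𝔭.primeCompl := by
      intro h'
      apply (Ideal.IsPrime.ne_top ‹𝔭.IsPrime›)
      rw [Ideal.eq_top_iff_one]
      have := 𝔭.add_mem h' hε
      simpa using this
    apply hC₀
    rw [IsLocalization.map_eq_zero_iff 𝔭.primeCompl S]
    exact ⟨⟨(1 - ε) * t, mul_mem h3 t.2⟩, by
      show (1 - ε) * (t : R) * C₀ = 0
      rw [mul_assoc]; exact h1⟩
  have hε1 : algebraMap R S ε = 1 := by
    have hu : IsUnit (algebraMap R S ε) := IsLocalization.map_units S ⟨ε, hε⟩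
    have h0 : algebraMap R S ε * (1 - algebraMap R S ε) = 0 := by
      rw [mul_sub, mul_one, ← map_mul, hεε, sub_self]
    have := (hu.mul_right_eq_zero).mp h0
    exact (sub_eq_zero.mp this).symm
  refine ⟨IsLocalization.mk' S ρ (⟨m, hm⟩ : 𝔭.primeCompl), ?_⟩
  have hm0 : algebraMap R (FractionRing S) m ≠ 0 := by
    rw [hιdef, Ne, ← map_zero (algebraMap S (FractionRing S))]
    exact fun h => (IsLocalization.map_units S (⟨m, hm⟩ : 𝔭.primeCompl)).ne_zero (hKinj h)
  have hC0 : algebraMap R (FractionRing S) C₀ ≠ 0 := by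
    rw [hιdef, Ne, ← map_zero (algebraMap S (FractionRing S))]
    exact fun h => hC₀ (hKinj h)
  have hy : algebraMap S (FractionRing S) (IsLocalization.mk' S ρ (⟨m, hm⟩ : 𝔭.primeCompl)) *
      algebraMap R (FractionRing S) m = algebraMap R (FractionRing S) ρ := by
    rw [hιdef, hιdef, ← map_mul]
    congr 1
    exact IsLocalization.mk'_spec S ρ (⟨m, hm⟩ : 𝔭.primeCompl)
  have h4 : algebraMap R (FractionRing S) C₀ * algebraMap R (FractionRing S) ρ =
      algebraMap R (FractionRing S) m * algebraMap R (FractionRing S) A₀ := by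
    rw [← map_mul, h2, map_mul, hιdef ε, hε1, map_one, one_mul, map_mul]
  rw [← hy, ← hxC] at h4
  have h5 : algebraMap R (FractionRing S) C₀ * algebraMap R (FractionRing S) m *
      algebraMap S (FractionRing S) (IsLocalization.mk' S ρ (⟨m, hm⟩ : 𝔭.primeCompl)) =
      algebraMap R (FractionRing S) C₀ * algebraMap R (FractionRing S) m * x := by
    linear_combination h4
  exact mul_left_cancel₀ (mul_ne_zero hC0 hm0) h5

end

end Groth.Agent.H8.NormNormal
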