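import Mathlib
import Groth.Agent.Lib.Helper8.NormNormal.Alg

/-!
# Sections of normal schemes: annihilator idempotents and division (helper8)
-/

set_option autoImplicit false
universe u
open AlgebraicGeometry CategoryTheory TopologicalSpace Opposite Polynomial

namespace Groth.Agent.H8.NormNormal

lemma alg_div {O : Type u} [CommRing O] [IsDomain O] [IsIntegrallyClosed O] (q : O[X])
    (hq : q.Monic) (a c : O) (hc : c ≠ 0) (h : (q.scaleRoots c).eval a = 0) :
    ∃ g : O, c * g = a ∧ q.eval g = 0 := by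
  have hinj : Function.Injective (algebraMap O (FractionRing O)) :=
    IsFractionRing.injective O (FractionRing O)
  have hcK : algebraMap O (FractionRing O) c ≠ 0 := by
    rw [Ne, ← map_zero (algebraMap O (FractionRing O))]
    exact fun h' => hc (hinj h')
  have hx : algebraMap O (FractionRing O) c *
      (algebraMap O (FractionRing O) a / algebraMap O (FractionRing O) c) =
      algebraMap O (FractionRing O) a := by
    field_simp
  have h1 := scaleRoots_eval₂_mul (p := q) (algebraMap O (FractionRing O))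
    (algebraMap O (FractionRing O) a / algebraMap O (FractionRing O) c) c
  rw [hx, eval₂_at_apply, h, map_zero] at h1
  have h2 : eval₂ (algebraMap O (FractionRing O))
      (algebraMap O (FractionRing O) a / algebraMap O (FractionRing O) c) q = 0 := by
    rcases mul_eq_zero.mp h1.symm with h3 | h3
    · exact absurd h3 (pow_ne_zero _ hcK)
    · exact h3
  have hint : IsIntegral O
      (algebraMap O (FractionRing O) a / algebraMap O (FractionRing O) c) := ⟨q, hq, h2⟩
  obtain ⟨g, hg⟩ := IsIntegrallyClosed.algebraMap_eq_of_integral hint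
  refine ⟨g, hinj ?_, hinj ?_⟩
  · rw [map_mul, hg, hx]
  · rw [map_zero, ← eval₂_at_apply, hg, h2]

variable {Y : Scheme.{u}}

/-- The germ map as a ring homomorphism. -/
noncomputable abbrev gm (V : Y.Opens) (v : Y) (hv : v ∈ V) : Γ(Y, V) →+* Y.presheaf.stalk v :=
  (Y.presheaf.germ V v hv).hom

lemma gm_res {U V : Y.Opens} (i : U ⟶ V) (v : Y) (hv : v ∈ U) (s : Γ(Y, V)) :
    gm U v hv (Y.presheaf.map i.op s) = gm V v (i.le hv) s :=
  TopCat.Presheaf.germ_res_apply Y.presheaf i v hv s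

lemma sec_ext {U : Y.Opens} (s t : Γ(Y, U))
    (h : ∀ (v : Y) (hv : v ∈ U), gm U v hv s = gm U v hv t) : s = t :=
  TopCat.Presheaf.section_ext Y.sheaf U s t h

/-- Gluing a family of germs which is locally given by sections. -/
theorem exists_section_of_germs (V : Y.Opens) (t : ∀ v : Y, v ∈ V → Y.presheaf.stalk v)
    (h : ∀ (v : Y) (hv : v ∈ V), ∃ (U : Y.Opens) (hU : U ≤ V) (_ : v ∈ U) (s : Γ(Y, U)),
      ∀ (w : Y) (hw : w ∈ U), gm U w hw s = t w (hU hw)) :
    ∃ σ : Γ(Y, V), ∀ (v : Y) (hv : v ∈ V), gm V v hv σ = t v hv := by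
  choose U hU hvU s hs using h
  let Uf : {v : Y // v ∈ V} → Y.Opens := fun v => U v.1 v.2
  let sf : ∀ i : {v : Y // v ∈ V}, ToType (Y.sheaf.1.obj (op (Uf i))) := fun v => s v.1 v.2
  have hc : TopCat.Presheaf.IsCompatible Y.sheaf.1 Uf sf := by
    intro i j
    refine sec_ext _ _ fun w hw => ?_
    have e1 := gm_res (Opens.infLELeft (Uf i) (Uf j)) w hw (sf i)
    have e2 := gm_res (Opens.infLERight (Uf i) (Uf j)) w hw (sf j)
    refine e1.trans (Eq.trans ?_ e2.symm)
    rw [hs i.1 i.2 w hw.1, hs j.1 j.2 w hw.2]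
  obtain ⟨σ, hσ, -⟩ := Y.sheaf.existsUnique_gluing' Uf V (fun i => homOfLE (hU i.1 i.2))
    (by
      intro v hv
      exact Opens.mem_iSup.mpr ⟨⟨v, hv⟩, hvU v hv⟩) sf hc
  refine ⟨σ, fun v hv => ?_⟩
  have h1 := hσ ⟨v, hv⟩
  have h2 := gm_res (homOfLE (hU v hv)) v (hvU v hv) σ
  rw [← hs v hv v (hvU v hv), ← h2]
  exact congrArg (gm (U v hv) v (hvU v hv)) h1

lemma gm_eq_zero_of_specializes {U : Y.Opens} {ξ v : Y} (h : ξ ⤳ v) (hv : v ∈ U) (s : Γ(Y, U))
    (hs : gm U v hv s = 0) : gm U ξ (h.mem_open U.2 hv) s = 0 := by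
  obtain ⟨W, hvW, iU, iV, e⟩ := TopCat.Presheaf.germ_eq Y.presheaf v hv hv s 0
    (hs.trans (map_zero (gm U v hv)).symm)
  have hξW : ξ ∈ W := h.mem_open W.2 hvW
  have h1 := congrArg (gm W ξ hξW) e
  rw [gm_res, gm_res, map_zero] at h1
  exact h1

lemma isOpen_zero (V : Y.Opens) (b : Γ(Y, V)) :
    IsOpen {v : Y | ∃ hv : v ∈ V, gm V v hv b = 0} := by
  rw [isOpen_iff_mem_nhds]
  rintro v ⟨hv, hb⟩
  obtain ⟨W, hvW, iU, iV, e⟩ := TopCat.Presheaf.germ_eq Y.presheaf v hv hv b 0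
    (hb.trans (map_zero (gm V v hv)).symm)
  refine Filter.mem_of_superset (W.2.mem_nhds hvW) (fun w hw => ⟨iU.le hw, ?_⟩)
  have h1 := congrArg (gm W w hw) e
  rw [gm_res, gm_res, map_zero] at h1
  exact h1

/-- If the stalk at `v` is a domain, a section vanishing at a generization of `v` vanishes at
`v`. -/
lemma gm_eq_zero_of_gen_eq_zero {V : Y.Opens} {ξ v : Y} (h : ξ ⤳ v) (hv : v ∈ V)
    [IsDomain (Y.presheaf.stalk v)] (b : Γ(Y, V))
    (hb : gm V ξ (h.mem_open V.2 hv) b = 0) : gm V v hv b = 0 := by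
  obtain ⟨T, hT, hvT, hTV⟩ := Opens.isBasis_iff_nbhd.mp Y.isBasis_affineOpens hv
  have hξT : ξ ∈ T := h.mem_open T.2 hvT
  have h1 : gm T ξ hξT (Y.presheaf.map (homOfLE hTV).op b) = 0 := by
    rw [gm_res]; exact hb
  letI := Y.presheaf.algebra_section_stalk ⟨ξ, hξT⟩
  haveI := IsAffineOpen.isLocalization_stalk hT ⟨ξ, hξT⟩
  have h1' : algebraMap Γ(Y, T) (Y.presheaf.stalk ξ) (Y.presheaf.map (homOfLE hTV).op b) = 0 := h1
  obtain ⟨m, hm⟩ := (IsLocalization.map_eq_zero_iff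
    (IsAffineOpen.primeIdealOf hT ⟨ξ, hξT⟩).asIdeal.primeCompl (Y.presheaf.stalk ξ) _).mp h1'
  have hmu : IsUnit (gm T ξ hξT (m : Γ(Y, T))) :=
    IsLocalization.map_units (Y.presheaf.stalk ξ) m
  have h2 : gm T v hvT (m : Γ(Y, T)) * gm T v hvT (Y.presheaf.map (homOfLE hTV).op b) = 0 := by
    rw [← map_mul, hm, map_zero]
  rcases mul_eq_zero.mp h2 with h3 | h3
  · exfalso
    have h4 := gm_eq_zero_of_specializes h hvT (m : Γ(Y, T)) h3
    rw [h4] at hmu
    exact not_isUnit_zero hmu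
  · rw [← gm_res (homOfLE hTV) v hvT b]; exact h3

/-- Idempotent section attached to a subset which is clopen in `V`. -/
theorem exists_idem_of_open (V : Y.Opens) (C : Set Y) (h1 : IsOpen (C ∩ V))
    (h2 : IsOpen (Cᶜ ∩ V)) :
    ∃ e : Γ(Y, V), (∀ v (hv : v ∈ V), v ∈ C → gm V v hv e = 1) ∧
      (∀ v (hv : v ∈ V), v ∉ C → gm V v hv e = 0) := by
  classical
  obtain ⟨σ, hσ⟩ := exists_section_of_germs V (fun v _ => if v ∈ C then 1 else 0) (by
    intro v hv
    by_cases hvC : v ∈ C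
    · refine ⟨⟨C ∩ V, h1⟩, fun w hw => hw.2, ⟨hvC, hv⟩, 1, fun w hw => ?_⟩
      rw [map_one, if_pos hw.1]
    · refine ⟨⟨Cᶜ ∩ V, h2⟩, fun w hw => hw.2, ⟨hvC, hv⟩, 0, fun w hw => ?_⟩
      rw [map_zero, if_neg hw.1])
  exact ⟨σ, fun v hv hvC => by rw [hσ, if_pos hvC], fun v hv hvC => by rw [hσ, if_neg hvC]⟩

section Normal

variable (hdom : ∀ y : Y, IsDomain (Y.presheaf.stalk y))
  (hic : ∀ y : Y, IsIntegrallyClosed (Y.presheaf.stalk y))
  (hsupp : ∀ (V : Y.Opens) (b : Γ(Y, V)), IsOpen {v : Y | ∃ hv : v ∈ V, gm V v hv b ≠ 0})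

include hsupp in
lemma exists_supp_idem (V : Y.Opens) (b : Γ(Y, V)) :
    ∃ e : Γ(Y, V), (∀ v (hv : v ∈ V), gm V v hv b ≠ 0 → gm V v hv e = 1) ∧
      (∀ v (hv : v ∈ V), gm V v hv b = 0 → gm V v hv e = 0) := by
  obtain ⟨e, h1, h0⟩ := exists_idem_of_open V {v | ∃ hv : v ∈ V, gm V v hv b ≠ 0}
    (by
      have : {v | ∃ hv : v ∈ V, gm V v hv b ≠ 0} ∩ (V : Set Y) =
          {v | ∃ hv : v ∈ V, gm V v hv b ≠ 0} :=
        Set.inter_eq_left.mpr (fun v hv => hv.1)
      rw [this]; exact hsupp V b)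
    (by
      have : {v | ∃ hv : v ∈ V, gm V v hv b ≠ 0}ᶜ ∩ (V : Set Y) =
          {v | ∃ hv : v ∈ V, gm V v hv b = 0} := by
        ext v
        constructor
        · rintro ⟨hn, hv⟩
          exact ⟨hv, by_contra fun h => hn ⟨hv, h⟩⟩
        · rintro ⟨hv, h0⟩
          exact ⟨fun ⟨_, hne⟩ => hne h0, hv⟩
      rw [this]; exact isOpen_zero V b)
  exact ⟨e, fun v hv h => h1 v hv ⟨hv, h⟩, fun v hv h => h0 v hv (fun ⟨_, h'⟩ => h' h)⟩

include hdom hsupp in
theorem hasIdem_sections (V : Y.Opens) : HasIdem Γ(Y, V) := by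
  intro b
  obtain ⟨e, he1, he0⟩ := exists_supp_idem hsupp V b
  refine ⟨e, ?_, ?_, ?_⟩
  · refine sec_ext _ _ fun v hv => ?_
    rw [map_mul]
    by_cases h : gm V v hv b = 0
    · rw [he0 v hv h, mul_zero]
    · rw [he1 v hv h, mul_one]
  · refine sec_ext _ _ fun v hv => ?_
    rw [map_mul, map_sub, map_one, map_zero]
    by_cases h : gm V v hv b = 0
    · rw [h, mul_zero]
    · rw [he1 v hv h, sub_self, zero_mul]
  · intro a hab
    refine sec_ext _ _ fun v hv => ?_
    rw [map_mul, map_zero]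
    by_cases h : gm V v hv b = 0
    · rw [he0 v hv h, zero_mul]
    · haveI := hdom v
      have h1 : gm V v hv a * gm V v hv b = 0 := by rw [← map_mul, hab, map_zero]
      rw [(mul_eq_zero.mp h1).resolve_right h, mul_zero]

include hdom hic hsupp in
theorem hasDiv_sections (V : Y.Opens) : HasDiv Γ(Y, V) := by
  classical
  intro q hq a c t h
  obtain ⟨e, he1, he0⟩ := exists_supp_idem hsupp V (t * c)
  have key : ∀ v (hv : v ∈ V), gm V v hv (t * c) ≠ 0 →
      ∃ g : Y.presheaf.stalk v, gm V v hv c * g = gm V v hv a ∧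
        (q.map (gm V v hv)).eval g = 0 := by
    intro v hv hne
    haveI := hdom v
    haveI := hic v
    rw [map_mul] at hne
    have ht : gm V v hv t ≠ 0 := left_ne_zero_of_mul hne
    have hc : gm V v hv c ≠ 0 := right_ne_zero_of_mul hne
    apply alg_div (q.map (gm V v hv)) (hq.map _) _ _ hc
    have h1 : gm V v hv t * gm V v hv ((q.scaleRoots c).eval a) = 0 := by
      rw [← map_mul, h, map_zero]
    have h2 := (mul_eq_zero.mp h1).resolve_left ht
    have h3 : (gm V v hv) q.leadingCoeff ≠ 0 := by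
      rw [hq.leadingCoeff, map_one]; exact one_ne_zero
    rw [← map_scaleRoots q c (gm V v hv) h3, eval_map_apply]
    exact h2
  have huniq : ∀ v (hv : v ∈ V), gm V v hv (t * c) ≠ 0 → ∀ g g' : Y.presheaf.stalk v,
      gm V v hv c * g = gm V v hv a → gm V v hv c * g' = gm V v hv a → g = g' := by
    intro v hv hne g g' hg hg'
    haveI := hdom v
    rw [map_mul] at hne
    exact mul_left_cancel₀ (right_ne_zero_of_mul hne) (hg.trans hg'.symm)
  obtain ⟨g, hg⟩ := exists_section_of_germs V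
    (fun v hv => if hne : gm V v hv (t * c) ≠ 0 then (key v hv hne).choose else 0) (by
    intro v hv
    by_cases hne : gm V v hv (t * c) ≠ 0
    · obtain ⟨hgv1, -⟩ := (key v hv hne).choose_spec
      obtain ⟨U₀, hU₀V, hvU₀, s, hs⟩ :=
        TopCat.Presheaf.exists_le_germ_eq Y.presheaf (key v hv hne).choose hv
      have hs' : gm U₀ v hvU₀ s = (key v hv hne).choose := hs
      have hgerm : gm U₀ v hvU₀ (Y.presheaf.map (homOfLE hU₀V).op c * s) =
          gm U₀ v hvU₀ (Y.presheaf.map (homOfLE hU₀V).op a) := by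
        rw [map_mul, gm_res, gm_res, hs']
        exact hgv1
      obtain ⟨W, hvW, iU, iV, e⟩ := TopCat.Presheaf.germ_eq Y.presheaf v hvU₀ hvU₀ _ _ hgerm
      refine ⟨W ⊓ ⟨{v | ∃ hv : v ∈ V, gm V v hv (t * c) ≠ 0}, hsupp V (t * c)⟩,
        fun w hw => hU₀V (iU.le (show w ∈ W ∧ _ from hw).1), ⟨hvW, ⟨hv, hne⟩⟩,
        Y.presheaf.map (homOfLE (inf_le_left.trans iU.le)).op s, fun w hw => ?_⟩
      obtain ⟨hwW, hwV, hwne⟩ : w ∈ W ∧ ∃ hv : w ∈ V, gm V w hv (t * c) ≠ 0 := hw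
      rw [dif_pos hwne]
      obtain ⟨hgw1, -⟩ := (key w hwV hwne).choose_spec
      refine huniq w hwV hwne _ _ ?_ hgw1
      have h1 := congrArg (gm W w hwW) e
      simp only [map_mul, gm_res] at h1
      rw [gm_res]
      exact h1
    · rw [not_not] at hne
      refine ⟨⟨{v | ∃ hv : v ∈ V, gm V v hv (t * c) = 0}, isOpen_zero V (t * c)⟩,
        fun w hw => hw.1, ⟨hv, hne⟩, 0, fun w hw => ?_⟩
      obtain ⟨hwV, hw0⟩ := hw
      rw [map_zero, dif_neg (not_not.mpr hw0)])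
  refine ⟨e, g, ?_, ?_, ?_, ?_⟩
  · refine sec_ext _ _ fun v hv => ?_
    rw [map_mul]
    by_cases h : gm V v hv (t * c) = 0
    · rw [he0 v hv h, mul_zero]
    · rw [he1 v hv h, mul_one]
  · refine sec_ext _ _ fun v hv => ?_
    rw [map_mul, map_sub, map_one, map_zero]
    by_cases h : gm V v hv (t * c) = 0
    · rw [h, mul_zero]
    · rw [he1 v hv h, sub_self, zero_mul]
  · refine sec_ext _ _ fun v hv => ?_
    rw [map_mul, map_mul, hg v hv]
    by_cases h : gm V v hv (t * c) = 0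
    · rw [dif_neg (not_not.mpr h), he0 v hv h, mul_zero, zero_mul]
    · rw [dif_pos h, he1 v hv h, one_mul]
      exact (key v hv h).choose_spec.1
  · refine sec_ext _ _ fun v hv => ?_
    rw [map_mul, map_zero, ← eval_map_apply, hg v hv]
    by_cases h : gm V v hv (t * c) = 0
    · rw [dif_neg (not_not.mpr h), zero_mul]
    · rw [dif_pos h, (key v hv h).choose_spec.2, mul_zero]

end Normal

end Groth.Agent.H8.NormNormal
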