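import Mathlib
import Groth.Prelude
import Groth.Agent.Lib.Helper8.NormNormal.Geo
import Groth.Agent.Lib.Helper8.TopComponents

/-!
# Maximal points of normal schemes with locally finitely many components (helper8)
-/

set_option autoImplicit false
universe u
open AlgebraicGeometry CategoryTheory TopologicalSpace Opposite

namespace Groth.Agent.H8.NormNormal

/-- Maximal points (points without proper generizations). -/
def MaxPt (T : Type*) [TopologicalSpace T] : Set T := {ξ | ∀ z : T, z ⤳ ξ → ξ ⤳ z}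

theorem closure_mem_irreducibleComponents_iff {α : Type*} [TopologicalSpace α]
    [QuasiSober α] (x : α) :
    closure ({x} : Set α) ∈ irreducibleComponents α ↔ x ∈ MaxPt α := by
  constructor
  · intro h y hy
    have h1 : closure ({x} : Set α) ⊆ closure {y} := by
      apply closure_minimal _ isClosed_closure
      rw [Set.singleton_subset_iff]
      exact specializes_iff_mem_closure.mp hy
    have h2 : closure ({y} : Set α) ⊆ closure {x} :=
      h.2 (isIrreducible_singleton.closure) h1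
    rw [specializes_iff_mem_closure]
    exact h2 (subset_closure rfl)
  · intro h
    refine ⟨isIrreducible_singleton.closure, fun s hs hle => ?_⟩
    have hs' : IsIrreducible (closure s) := hs.closure
    obtain ⟨z, hz⟩ := QuasiSober.sober hs' isClosed_closure
    have hxz : z ⤳ x := by
      rw [specializes_iff_mem_closure, hz.def]
      exact subset_closure (hle (subset_closure rfl))
    have hzx : x ⤳ z := h z hxz
    have h3 : closure ({z} : Set α) ⊆ closure {x} := by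
      apply closure_minimal _ isClosed_closure
      rw [Set.singleton_subset_iff]
      exact specializes_iff_mem_closure.mp hzx
    calc s ⊆ closure s := subset_closure
      _ = closure {z} := hz.def.symm
      _ ⊆ closure {x} := h3

lemma exists_maxPt_specializes {α : Type*} [TopologicalSpace α] [QuasiSober α] (x : α) :
    ∃ ξ ∈ MaxPt α, ξ ⤳ x := by
  obtain ⟨η, hη⟩ := QuasiSober.sober (isIrreducible_irreducibleComponent (x := x))
    isClosed_irreducibleComponent
  refine ⟨η, (closure_mem_irreducibleComponents_iff η).mp ?_, ?_⟩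
  · rw [hη.def]
    exact irreducibleComponent_mem_irreducibleComponents x
  · rw [specializes_iff_mem_closure, hη.def]
    exact mem_irreducibleComponent

lemma maxPt_eq_of_specializes {α : Type*} [TopologicalSpace α] [T0Space α] {ξ ξ' : α}
    (hξ' : ξ' ∈ MaxPt α) (h : ξ ⤳ ξ') : ξ = ξ' :=
  (h.antisymm (hξ' ξ h)).eq

lemma exists_maxPt_of_mem_irreducibleComponents {α : Type*} [TopologicalSpace α] [QuasiSober α]
    {Z : Set α} (hZ : Z ∈ irreducibleComponents α) : ∃ ξ ∈ MaxPt α, Z = closure {ξ} := by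
  have hcl : IsClosed Z := isClosed_of_mem_irreducibleComponents Z hZ
  obtain ⟨ξ, hξ⟩ := QuasiSober.sober hZ.1 hcl
  refine ⟨ξ, (closure_mem_irreducibleComponents_iff ξ).mp ?_, hξ.def.symm⟩
  rw [hξ.def]; exact hZ

lemma finite_maxPt_inter {α : Type*} [TopologicalSpace α] [T0Space α] [QuasiSober α]
    (s : Set α)
    (hs : {Z : irreducibleComponents α | ((Z : Set α) ∩ s).Nonempty}.Finite) :
    (MaxPt α ∩ s).Finite := by
  have hinj : Function.Injective (fun ξ : α => closure ({ξ} : Set α)) := by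
    intro ξ ξ' h
    exact (inseparable_iff_closure_eq.mpr h).eq
  have himg : ((fun Z : irreducibleComponents α => (Z : Set α)) ''
      {Z | ((Z : Set α) ∩ s).Nonempty}).Finite := hs.image _
  refine (himg.preimage (hinj.injOn)).subset ?_
  rintro ξ ⟨hξ, hξs⟩
  exact ⟨⟨closure {ξ}, (closure_mem_irreducibleComponents_iff ξ).mpr hξ⟩,
    ⟨ξ, subset_closure rfl, hξs⟩, rfl⟩

section Sch

variable (Y : Scheme.{u})

lemma maxPt_unique_of_isDomain (x : Y) [IsDomain (Y.presheaf.stalk x)] {ξ ξ' : Y}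
    (hξ : ξ ∈ MaxPt Y) (hξ' : ξ' ∈ MaxPt Y) (h : ξ ⤳ x) (h' : ξ' ⤳ x) : ξ = ξ' := by
  have key : ∀ ζ : Y, ζ ∈ MaxPt Y → ζ ⤳ x →
      ζ = Y.fromSpecStalk x (⟨⊥, Ideal.isPrime_bot⟩ : PrimeSpectrum (Y.presheaf.stalk x)) := by
    intro ζ hζ hζx
    obtain ⟨P, rfl⟩ : ∃ P : PrimeSpectrum (Y.presheaf.stalk x), Y.fromSpecStalk x P = ζ := by
      have : ζ ∈ Set.range (Y.fromSpecStalk x) := by
        rw [Scheme.range_fromSpecStalk]; exact hζx
      exact this
    have h1 : (⟨⊥, Ideal.isPrime_bot⟩ : PrimeSpectrum (Y.presheaf.stalk x)) ⤳ P :=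
      (PrimeSpectrum.le_iff_specializes _ P).mp bot_le
    have h2 : Y.fromSpecStalk x (⟨⊥, Ideal.isPrime_bot⟩ : PrimeSpectrum (Y.presheaf.stalk x)) ⤳
        Y.fromSpecStalk x P := h1.map (Y.fromSpecStalk x).continuous
    have h3 := hζ _ h2
    exact (h3.antisymm h2).eq
  rw [key ξ hξ h, key ξ' hξ' h']

lemma eq_zero_of_not_isUnit_of_maxPt (y : Y) [IsDomain (Y.presheaf.stalk y)]
    (hy : y ∈ MaxPt Y) (s : Y.presheaf.stalk y) (hs : ¬ IsUnit s) : s = 0 := by
  have h1 : Y.fromSpecStalk y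
      (⟨⊥, Ideal.isPrime_bot⟩ : PrimeSpectrum (Y.presheaf.stalk y)) ⤳ y := by
    have : Y.fromSpecStalk y (⟨⊥, Ideal.isPrime_bot⟩ : PrimeSpectrum (Y.presheaf.stalk y)) ∈
        Set.range (Y.fromSpecStalk y) := ⟨_, rfl⟩
    rw [Scheme.range_fromSpecStalk] at this
    exact this
  have h2 := hy _ h1
  have h3 : Y.fromSpecStalk y (IsLocalRing.closedPoint (Y.presheaf.stalk y)) = y :=
    Scheme.fromSpecStalk_closedPoint
  have h2' : Y.fromSpecStalk y (IsLocalRing.closedPoint (Y.presheaf.stalk y)) ⤳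
      Y.fromSpecStalk y (⟨⊥, Ideal.isPrime_bot⟩ : PrimeSpectrum (Y.presheaf.stalk y)) := by
    rw [h3]; exact h2
  have h4 : IsLocalRing.closedPoint (Y.presheaf.stalk y) ⤳
      (⟨⊥, Ideal.isPrime_bot⟩ : PrimeSpectrum (Y.presheaf.stalk y)) :=
    ((Y.fromSpecStalk y).isEmbedding.isInducing.specializes_iff).mp h2'
  have h5 : (IsLocalRing.closedPoint (Y.presheaf.stalk y)).asIdeal ≤
      (⊥ : Ideal (Y.presheaf.stalk y)) := (PrimeSpectrum.le_iff_specializes _ _).mpr h4
  have h6 : s ∈ IsLocalRing.maximalIdeal (Y.presheaf.stalk y) :=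
    (IsLocalRing.mem_maximalIdeal s).mpr hs
  exact (Submodule.mem_bot _).mp (h5 h6)

variable {Y}

theorem F1 (x : Y) : ∃ ξ ∈ MaxPt Y, ξ ⤳ x := exists_maxPt_specializes x

theorem F3 (hfin : LocallyFinite (fun Z : irreducibleComponents Y => (Z : Set Y))) (x : Y) :
    ∃ W : Set Y, IsOpen W ∧ x ∈ W ∧ (MaxPt Y ∩ W).Finite := by
  obtain ⟨t, ht, hfin'⟩ := hfin x
  obtain ⟨W, hWt, hWo, hxW⟩ := mem_nhds_iff.mp ht
  exact ⟨W, hWo, hxW, (finite_maxPt_inter t hfin').subset (Set.inter_subset_inter_right _ hWt)⟩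

theorem F4 (hY : Pi1.IsNormalScheme Y) (x : Y) (ξ : Y) (hξ : ξ ∈ MaxPt Y) (ξ' : Y)
    (hξ' : ξ' ∈ MaxPt Y) (h : ξ ⤳ x) (h' : ξ' ⤳ x) : ξ = ξ' := by
  haveI := (hY x).1
  exact maxPt_unique_of_isDomain Y x hξ hξ' h h'

theorem isOpen_closure_maxPt (hY : Pi1.IsNormalScheme Y)
    (hfin : LocallyFinite (fun Z : irreducibleComponents Y => (Z : Set Y))) {ξ : Y}
    (hξ : ξ ∈ MaxPt Y) : IsOpen (closure ({ξ} : Set Y)) :=
  TopComp.isOpen_closure_singleton (MaxPt Y) F1 (F3 hfin) (F4 hY) hξ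

theorem isOpen_supp (hY : Pi1.IsNormalScheme Y)
    (hfin : LocallyFinite (fun Z : irreducibleComponents Y => (Z : Set Y)))
    (V : Y.Opens) (b : Γ(Y, V)) : IsOpen {v : Y | ∃ hv : v ∈ V, gm V v hv b ≠ 0} := by
  rw [isOpen_iff_mem_nhds]
  rintro v ⟨hv, hb⟩
  obtain ⟨ξ, hξ, hξv⟩ := F1 v
  have hopen : IsOpen (closure ({ξ} : Set Y)) := isOpen_closure_maxPt hY hfin hξ
  have hξV : ξ ∈ V := hξv.mem_open V.2 hv
  haveI := (hY v).1
  have hbξ : gm V ξ hξV b ≠ 0 := fun h0 => hb (gm_eq_zero_of_gen_eq_zero hξv hv b h0)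
  refine Filter.mem_of_superset ((hopen.inter V.2).mem_nhds ⟨hξv.mem_closure, hv⟩) ?_
  rintro w ⟨hwξ, hwV⟩
  refine ⟨hwV, fun h0 => hbξ ?_⟩
  have hξw : ξ ⤳ w := specializes_iff_mem_closure.mpr hwξ
  exact gm_eq_zero_of_specializes hξw hwV b h0

end Sch

end Groth.Agent.H8.NormNormal
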