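import Mathlib
import Groth.Prelude
import Groth.Agent.Lib.Helper8.NormNormal.Top
import Groth.Agent.Lib.Helper8.QCClosure

/-!
# Normalization of a scheme in a normal scheme (helper8, S9673)
-/

set_option autoImplicit false
universe u
open AlgebraicGeometry CategoryTheory TopologicalSpace Opposite

namespace Groth.Agent.H8.NormNormal

section Abstract

variable {Y N : Scheme.{u}} (ν : Y ⟶ N)

/-- An affine chart of `N` over which `N` looks like a ring integrally closed in the sections of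
`Y`. -/
def GoodChart (W : N.Opens) : Prop :=
  IsAffineOpen W ∧ IsCompact ((ν ⁻¹ᵁ W : Y.Opens) : Set Y) ∧
    Function.Injective (ν.app W).hom ∧
    ∀ b : Γ(Y, ν ⁻¹ᵁ W), (ν.app W).hom.IsIntegralElem b → b ∈ Set.range (ν.app W).hom

lemma mem_basicOpen_iff (W : N.Opens) (r : Γ(N, W)) (y : Y) (hy : y ∈ ν ⁻¹ᵁ W) :
    ν y ∈ N.basicOpen r ↔ IsUnit (gm (ν ⁻¹ᵁ W) y hy ((ν.app W).hom r)) := by
  have h1 : ν y ∈ N.basicOpen r ↔ y ∈ ν ⁻¹ᵁ N.basicOpen r := Iff.rfl
  rw [h1, Scheme.preimage_basicOpen, Y.mem_basicOpen _ y hy]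

lemma idem_of_germs {V : Y.Opens} (e : Γ(Y, V))
    (h : ∀ v (hv : v ∈ V), gm V v hv e = 1 ∨ gm V v hv e = 0) : e * e = e := by
  refine sec_ext _ _ fun v hv => ?_
  rw [map_mul]
  rcases h v hv with h1 | h0
  · rw [h1, mul_one]
  · rw [h0, mul_zero]

variable (hY : Pi1.IsNormalScheme Y)
  (hfin : LocallyFinite (fun Z : irreducibleComponents Y => (Z : Set Y)))
  (hchart : ∀ x' : N, ∃ W : N.Opens, x' ∈ W ∧ GoodChart ν W)

include hY hfin hchart in
theorem isNormal_of_charts : Pi1.IsNormalScheme N := by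
  intro x'
  obtain ⟨W, hx'W, hW, -, hinj, hcl⟩ := hchart x'
  have hI := hasIdem_sections (fun y => (hY y).1) (isOpen_supp hY hfin) (ν ⁻¹ᵁ W)
  have hD := hasDiv_sections (fun y => (hY y).1) (fun y => (hY y).2) (isOpen_supp hY hfin)
    (ν ⁻¹ᵁ W)
  letI := N.presheaf.algebra_section_stalk ⟨x', hx'W⟩
  haveI := hW.isLocalization_stalk ⟨x', hx'W⟩
  haveI := (hW.primeIdealOf ⟨x', hx'W⟩).isPrime
  exact ⟨isDomain_localization (ν.app W).hom hinj hcl hI (hW.primeIdealOf ⟨x', hx'W⟩).asIdeal _,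
    isIntegrallyClosed_localization (ν.app W).hom hinj hcl hI hD
      (hW.primeIdealOf ⟨x', hx'W⟩).asIdeal _⟩

include hY hfin hchart in
theorem map_maxPt {y : Y} (hy : y ∈ MaxPt Y) : ν y ∈ MaxPt N := by
  intro z' hz'
  obtain ⟨W, hyW, hW, -, hinj, hcl⟩ := hchart (ν y)
  have hz'W : z' ∈ W := hz'.mem_open W.2 hyW
  rw [specializes_iff_forall_open]
  intro s hs hz's
  obtain ⟨r, hrs, hz'r⟩ := hW.exists_basicOpen_le (V := ⟨s, hs⟩) ⟨z', hz's⟩ hz'W
  apply hrs
  by_contra hνy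
  have hyV : y ∈ ν ⁻¹ᵁ W := hyW
  rw [mem_basicOpen_iff ν W r y hyV] at hνy
  haveI := (hY y).1
  have h0 : gm (ν ⁻¹ᵁ W) y hyV ((ν.app W).hom r) = 0 :=
    eq_zero_of_not_isUnit_of_maxPt Y y hy _ hνy
  obtain ⟨e, he1, he0⟩ := exists_supp_idem (isOpen_supp hY hfin) (ν ⁻¹ᵁ W) ((ν.app W).hom r)
  have hee : e * e = e := idem_of_germs e (fun v hv => by
    by_cases h : gm (ν ⁻¹ᵁ W) v hv ((ν.app W).hom r) = 0
    · exact Or.inr (he0 v hv h)
    · exact Or.inl (he1 v hv h))
  obtain ⟨ε, rfl⟩ := idem_mem_range (ν.app W).hom hcl e hee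
  have h1 : (1 - ε) * r = 0 := by
    apply hinj
    rw [map_mul, map_sub, map_one, map_zero]
    refine sec_ext _ _ fun v hv => ?_
    rw [map_mul, map_sub, map_one, map_zero]
    by_cases h : gm (ν ⁻¹ᵁ W) v hv ((ν.app W).hom r) = 0
    · rw [h, mul_zero]
    · rw [he1 v hv h, sub_self, zero_mul]
  have h2 : ν y ∈ N.basicOpen (1 - ε) := by
    rw [mem_basicOpen_iff ν W (1 - ε) y hyV, map_sub, map_one, map_sub, map_one,
      he0 y hyV h0, sub_zero]
    exact isUnit_one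
  have h3 : z' ∈ N.basicOpen (1 - ε) := hz'.mem_open (N.basicOpen (1 - ε)).2 h2
  have h4 : z' ∈ N.basicOpen ((1 - ε) * r) := by
    rw [Scheme.basicOpen_mul]; exact ⟨h3, hz'r⟩
  rw [h1, Scheme.basicOpen_zero] at h4
  exact h4

include hY hfin hchart in
theorem existsUnique_maxPt [QuasiCompact ν] [IsDominant ν] {x' : N} (hx' : x' ∈ MaxPt N) :
    ∃! y : Y, y ∈ MaxPt Y ∧ ν y = x' := by
  have hdense : x' ∈ closure (Set.range ν) := (IsDominant.denseRange (f := ν)) x'
  obtain ⟨y₀, hy₀⟩ := QCClosure.exists_specializes_of_mem_closure_range ν x' hdense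
  have hνy₀ : ν y₀ = x' := maxPt_eq_of_specializes hx' hy₀
  obtain ⟨ξ, hξ, hξy₀⟩ := F1 y₀
  have hνξ : ν ξ = x' := by
    have h1 : ν ξ ⤳ ν y₀ := hξy₀.map ν.continuous
    rw [hνy₀] at h1
    exact maxPt_eq_of_specializes hx' h1
  refine ⟨ξ, ⟨hξ, hνξ⟩, ?_⟩
  rintro y ⟨hy, hνy⟩
  by_contra hne
  obtain ⟨W, hx'W, hW, -, hinj, hcl⟩ := hchart x'
  have hξV : ξ ∈ ν ⁻¹ᵁ W := by
    show ν ξ ∈ W
    rw [hνξ]; exact hx'W
  have hyV : y ∈ ν ⁻¹ᵁ W := by
    show ν y ∈ W
    rw [hνy]; exact hx'W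
  have hclopen : IsOpen (closure ({ξ} : Set Y)) := isOpen_closure_maxPt hY hfin hξ
  obtain ⟨e, he1, he0⟩ := exists_idem_of_open (ν ⁻¹ᵁ W) (closure {ξ})
    (hclopen.inter (ν ⁻¹ᵁ W).2) (isClosed_closure.isOpen_compl.inter (ν ⁻¹ᵁ W).2)
  have hee : e * e = e := idem_of_germs e (fun v hv => by
    by_cases h : v ∈ closure ({ξ} : Set Y)
    · exact Or.inl (he1 v hv h)
    · exact Or.inr (he0 v hv h))
  obtain ⟨ε, rfl⟩ := idem_mem_range (ν.app W).hom hcl e hee
  have h1 : ν ξ ∈ N.basicOpen ε := by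
    rw [mem_basicOpen_iff ν W ε ξ hξV, he1 ξ hξV (subset_closure rfl)]
    exact isUnit_one
  have hyξ : y ∉ closure ({ξ} : Set Y) := fun h =>
    hne (maxPt_eq_of_specializes hy (specializes_iff_mem_closure.mpr h)).symm
  have h2 : ¬ ν y ∈ N.basicOpen ε := by
    rw [mem_basicOpen_iff ν W ε y hyV, he0 y hyV hyξ]
    exact not_isUnit_zero
  rw [hνy, ← hνξ] at h2
  exact h2 h1

include hY hfin hchart in
theorem locallyFinite_components [QuasiCompact ν] [IsDominant ν] :
    LocallyFinite (fun Z : irreducibleComponents N => (Z : Set N)) := by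
  intro x'
  obtain ⟨W, hx'W, hW, hcpt, hinj, hcl⟩ := hchart x'
  refine ⟨W, W.2.mem_nhds hx'W, ?_⟩
  have hF : (MaxPt Y ∩ ((ν ⁻¹ᵁ W : Y.Opens) : Set Y)).Finite :=
    finite_maxPt_inter _ (hfin.finite_nonempty_inter_compact hcpt)
  have himg : ((fun y : Y => closure ({ν y} : Set N)) ''
      (MaxPt Y ∩ ((ν ⁻¹ᵁ W : Y.Opens) : Set Y))).Finite := hF.image _
  refine (himg.preimage (Subtype.val_injective.injOn)).subset ?_
  rintro ⟨Z, hZ⟩ ⟨w, hwZ, hwW⟩
  obtain ⟨ξ', hξ', rfl⟩ := exists_maxPt_of_mem_irreducibleComponents hZ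
  have hξ'W : ξ' ∈ W := (specializes_iff_mem_closure.mpr hwZ).mem_open W.2 hwW
  obtain ⟨y, ⟨hy, hνy⟩, -⟩ := existsUnique_maxPt ν hY hfin hchart hξ'
  refine ⟨y, ⟨hy, ?_⟩, ?_⟩
  · show ν y ∈ W
    rw [hνy]; exact hξ'W
  · show closure ({ν y} : Set N) = closure {ξ'}
    rw [hνy]

end Abstract

section Normalization

variable {P Q : Scheme.{u}} (f : P ⟶ Q) [QuasiCompact f] [QuasiSeparated f]

theorem goodChart_normalization {U : Q.Opens} (hU : IsAffineOpen U) :
    GoodChart f.toNormalization (f.fromNormalization ⁻¹ᵁ U) := by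
  letI alg : Algebra Γ(Q, U) Γ(P, f ⁻¹ᵁ U) := (f.app U).hom.toAlgebra
  have hle : f ⁻¹ᵁ U ≤ f.toNormalization ⁻¹ᵁ (f.fromNormalization ⁻¹ᵁ U) := by
    rw [← Scheme.Hom.comp_preimage, Scheme.Hom.toNormalization_fromNormalization]
  have hle' : f.toNormalization ⁻¹ᵁ (f.fromNormalization ⁻¹ᵁ U) ≤ f ⁻¹ᵁ U := by
    rw [← Scheme.Hom.comp_preimage, Scheme.Hom.toNormalization_fromNormalization]
  have hval : (f.normalizationObjIso hU).hom ≫ CommRingCat.ofHom
      (Subalgebra.val (integralClosure Γ(Q, U) Γ(P, f ⁻¹ᵁ U))).toRingHom =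
      f.toNormalization.app (f.fromNormalization ⁻¹ᵁ U) ≫ P.presheaf.map (homOfLE hle).op :=
    f.normalizationObjIso_hom_val hU
  have hρρ' : P.presheaf.map (homOfLE hle).op ≫ P.presheaf.map (homOfLE hle').op = 𝟙 _ := by
    rw [← Functor.map_comp, ← op_comp]
    exact (congrArg (fun t => P.presheaf.map t) (Subsingleton.elim _ _)).trans
      (P.presheaf.map_id _)
  have hρinj : Function.Injective (P.presheaf.map (homOfLE hle).op).hom := by
    intro a b hab
    have h1 := congrArg (P.presheaf.map (homOfLE hle').op).hom hab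
    have h2 : ∀ t, (P.presheaf.map (homOfLE hle').op).hom ((P.presheaf.map (homOfLE hle).op).hom t)
        = t := fun t => by
      have := congrArg (fun φ => φ.hom t) hρρ'
      exact this
    rwa [h2, h2] at h1
  have hisoinj : Function.Injective (f.normalizationObjIso hU).hom.hom :=
    (ConcreteCategory.bijective_of_isIso (f.normalizationObjIso hU).hom).1
  have hcomp : ∀ r, (P.presheaf.map (homOfLE hle).op).hom
      ((f.toNormalization.app (f.fromNormalization ⁻¹ᵁ U)).hom r) =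
      ((f.normalizationObjIso hU).hom.hom r : Γ(P, f ⁻¹ᵁ U)) := fun r => by
    have := congrArg (fun φ => φ.hom r) hval
    exact this.symm
  refine ⟨hU.preimage f.fromNormalization, ?_, ?_, ?_⟩
  · have h1 : ((f.toNormalization ⁻¹ᵁ (f.fromNormalization ⁻¹ᵁ U) : P.Opens) : Set P) =
        ((f ⁻¹ᵁ U : P.Opens) : Set P) := by
      rw [← Scheme.Hom.comp_preimage, Scheme.Hom.toNormalization_fromNormalization]
    rw [h1]
    exact f.isCompact_preimage hU.isCompact
  · intro a b hab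
    apply hisoinj
    apply Subtype.val_injective
    rw [← hcomp, ← hcomp, hab]
  · rintro b ⟨p, hp, hpb⟩
    have h1 : Polynomial.eval₂ (algebraMap (integralClosure Γ(Q, U) Γ(P, f ⁻¹ᵁ U))
        Γ(P, f ⁻¹ᵁ U)) ((P.presheaf.map (homOfLE hle).op).hom b)
        (p.map (f.normalizationObjIso hU).hom.hom) = 0 := by
      rw [Polynomial.eval₂_map]
      have h2 := congrArg (P.presheaf.map (homOfLE hle).op).hom hpb
      rw [Polynomial.hom_eval₂, map_zero] at h2
      convert h2 using 2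
      ext r
      exact (hcomp r).symm
    have h3 : IsIntegral (integralClosure Γ(Q, U) Γ(P, f ⁻¹ᵁ U))
        ((P.presheaf.map (homOfLE hle).op).hom b) := ⟨_, hp.map _, h1⟩
    have h4 : IsIntegral Γ(Q, U) ((P.presheaf.map (homOfLE hle).op).hom b) :=
      isIntegral_trans _ h3
    refine ⟨(f.normalizationObjIso hU).inv.hom ⟨_, h4⟩, ?_⟩
    apply hρinj
    rw [hcomp]
    have h5 : (f.normalizationObjIso hU).hom.hom ((f.normalizationObjIso hU).inv.hom ⟨_, h4⟩) =
        ⟨_, h4⟩ := by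
      have := congrArg (fun φ => φ.hom ⟨_, h4⟩) (f.normalizationObjIso hU).inv_hom_id
      exact this
    rw [h5]

end Normalization

theorem main_S9673 {X Y : Scheme.{u}} (f : Y ⟶ X) [QuasiCompact f] [QuasiSeparated f]
    (hY : Pi1.IsNormalScheme Y)
    (hfin : LocallyFinite (fun Z : ↥(irreducibleComponents ↥Y) => (Z : Set ↥Y))) :
    Pi1.IsNormalScheme f.normalization ∧
    LocallyFinite (fun Z : ↥(irreducibleComponents ↥f.normalization) =>
      (Z : Set ↥f.normalization)) ∧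
    (∀ y : Y, closure {y} ∈ irreducibleComponents ↥Y →
      closure {f.toNormalization.base y} ∈ irreducibleComponents ↥f.normalization) ∧
    (∀ x' : ↥f.normalization, closure {x'} ∈ irreducibleComponents ↥f.normalization →
      ∃! y : Y, closure {y} ∈ irreducibleComponents ↥Y ∧ f.toNormalization.base y = x') := by
  have hchart : ∀ x' : f.normalization, ∃ W : f.normalization.Opens,
      x' ∈ W ∧ GoodChart f.toNormalization W := by
    intro x'
    obtain ⟨U, hU, hxU, -⟩ := Opens.isBasis_iff_nbhd.mp X.isBasis_affineOpens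
      (show f.fromNormalization x' ∈ (⊤ : X.Opens) from trivial)
    exact ⟨f.fromNormalization ⁻¹ᵁ U, hxU, goodChart_normalization f hU⟩
  refine ⟨isNormal_of_charts _ hY hfin hchart, locallyFinite_components _ hY hfin hchart, ?_, ?_⟩
  · intro y hy
    rw [closure_mem_irreducibleComponents_iff] at hy ⊢
    exact map_maxPt _ hY hfin hchart hy
  · intro x' hx'
    rw [closure_mem_irreducibleComponents_iff] at hx'
    obtain ⟨y, ⟨hy, hνy⟩, huniq⟩ := existsUnique_maxPt _ hY hfin hchart hx'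
    refine ⟨y, ⟨(closure_mem_irreducibleComponents_iff y).mpr hy, hνy⟩, ?_⟩
    rintro y' ⟨hy', hνy'⟩
    exact huniq y' ⟨(closure_mem_irreducibleComponents_iff y').mp hy', hνy'⟩

end Groth.Agent.H8.NormNormal
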